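import Mathlib

open MvPolynomial

namespace Groth.Agent.H5.CoxGen
universe u

section Key
variable {k : Type u} [Field k] {σ : Type*} (mo : MonomialOrder σ)

/-- the monomial span of a set of exponents -/
noncomputable def monoSpan (k : Type u) [Field k] {σ : Type*} (E : Set (σ →₀ ℕ)) :
    Submodule k (MvPolynomial σ k) :=
  Submodule.span k {f | ∃ e, e ∈ E ∧ f = monomial e 1}

theorem support_subset_of_mem_monoSpan (E : Set (σ →₀ ℕ)) (f : MvPolynomial σ k)
    (hf : f ∈ monoSpan k E) : ∀ d ∈ f.support, d ∈ E := by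
  classical
  induction hf using Submodule.span_induction with
  | mem f hf =>
    obtain ⟨e, he, rfl⟩ := hf
    intro d hd
    rw [support_monomial, if_neg one_ne_zero, Finset.mem_singleton] at hd
    rw [hd]; exact he
  | zero => intro d hd; simp at hd
  | add f g _ _ hf hg =>
    intro d hd
    rcases Finset.mem_union.mp (support_add hd) with h | h
    · exact hf d h
    · exact hg d h
  | smul c f _ hf =>
    intro d hd
    exact hf d (support_smul hd)

theorem reduce_step (f v : MvPolynomial σ k) (hf : f ≠ 0) (hv : v ≠ 0)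
    (hdeg : mo.degree v = mo.degree f) :
    f - (mo.leadingCoeff f / mo.leadingCoeff v) • v = 0 ∨
      mo.toSyn (mo.degree (f - (mo.leadingCoeff f / mo.leadingCoeff v) • v)) <
        mo.toSyn (mo.degree f) := by
  set g := f - (mo.leadingCoeff f / mo.leadingCoeff v) • v with hg
  by_cases hg0 : g = 0
  · exact Or.inl hg0
  right
  have hlv : mo.leadingCoeff v ≠ 0 := mo.leadingCoeff_ne_zero_iff.mpr hv
  have hcoeff : coeff (mo.degree f) g = 0 := by
    rw [hg, coeff_sub, coeff_smul, smul_eq_mul]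
    have : coeff (mo.degree f) v = mo.leadingCoeff v := by
      rw [← hdeg]; rfl
    rw [this, div_mul_cancel₀ _ hlv]
    exact sub_self _
  have hle : mo.toSyn (mo.degree g) ≤ mo.toSyn (mo.degree f) := by
    refine le_trans mo.degree_sub_le ?_
    rw [sup_le_iff]
    refine ⟨le_rfl, ?_⟩
    refine le_trans mo.degree_smul_le ?_
    rw [hdeg]
  refine lt_of_le_of_ne hle ?_
  intro heq
  have h1 : mo.degree g = mo.degree f := mo.toSyn.injective heq
  have h2 := mo.degree_mem_support hg0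
  rw [h1, mem_support_iff] at h2
  exact h2 hcoeff

theorem monoSpan_le_of_leading (E : Set (σ →₀ ℕ)) (V : Submodule k (MvPolynomial σ k))
    (hV : V ≤ monoSpan k E)
    (hlead : ∀ e ∈ E, ∃ v ∈ V, v ≠ 0 ∧ mo.degree v = e) :
    monoSpan k E ≤ V := by
  have key : ∀ (x : mo.syn) (f : MvPolynomial σ k), f ∈ monoSpan k E →
      mo.toSyn (mo.degree f) = x → f ∈ V := by
    intro x
    induction x using mo.wellFoundedLT_syn.induction with
    | _ x ih =>
      intro f hf hx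
      by_cases hf0 : f = 0
      · rw [hf0]; exact V.zero_mem
      have hE : mo.degree f ∈ E :=
        support_subset_of_mem_monoSpan E f hf _ (mo.degree_mem_support hf0)
      obtain ⟨v, hvV, hv0, hvdeg⟩ := hlead _ hE
      have hgT : f - (mo.leadingCoeff f / mo.leadingCoeff v) • v ∈ monoSpan k E :=
        Submodule.sub_mem _ hf (Submodule.smul_mem _ _ (hV hvV))
      have hfg : f = (f - (mo.leadingCoeff f / mo.leadingCoeff v) • v) +
          (mo.leadingCoeff f / mo.leadingCoeff v) • v := by ring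
      rcases reduce_step mo f v hf0 hv0 hvdeg with h0 | hlt
      · rw [hfg, h0, zero_add]
        exact V.smul_mem _ hvV
      · rw [hfg]
        refine V.add_mem ?_ (V.smul_mem _ hvV)
        exact ih _ (hx ▸ hlt) _ hgT rfl
  intro f hf
  exact key _ f hf rfl

end Key


section Cox
variable (k : Type u) [Field k]

/-- exponents of bidegree `(a, b)` -/
def Ebi (a b : ℕ) : Set (Fin 4 →₀ ℕ) := {e | e 2 + e 3 = a ∧ e 0 + e 1 = b + e 2}

theorem monoSpan_Ebi (a b : ℕ) :
    monoSpan k (Ebi a b) = Submodule.span k {f : MvPolynomial (Fin 4) k |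
      ∃ e : Fin 4 →₀ ℕ, e 2 + e 3 = a ∧ e 0 + e 1 = b + e 2 ∧ f = MvPolynomial.monomial e 1} := by
  unfold monoSpan Ebi
  congr 1
  ext f
  constructor
  · rintro ⟨e, ⟨h1, h2⟩, rfl⟩; exact ⟨e, h1, h2, rfl⟩
  · rintro ⟨e, h1, h2, rfl⟩; exact ⟨e, ⟨h1, h2⟩, rfl⟩

theorem mul_le (a b c : ℕ) :
    monoSpan k (Ebi a b) * monoSpan k (Ebi 0 c) ≤ monoSpan k (Ebi a (b + c)) := by
  unfold monoSpan
  rw [Submodule.span_mul_span, Submodule.span_le]
  rintro _ ⟨f, ⟨e, ⟨h1, h2⟩, rfl⟩, g, ⟨e', ⟨h1', h2'⟩, rfl⟩, rfl⟩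
  apply Submodule.subset_span
  refine ⟨e + e', ⟨?_, ?_⟩, ?_⟩
  · simp only [Finsupp.add_apply]; omega
  · simp only [Finsupp.add_apply]; omega
  · simp [monomial_mul]

theorem main (mo : MonomialOrder (Fin 4)) (a b c : ℕ) (W : Submodule k (MvPolynomial (Fin 4) k))
    (hW : W ≤ monoSpan k (Ebi a b))
    (h₁ : ∀ i j : ℕ, i ≤ a → j * (c + 1) < b + i → ∃ w ∈ W, w ≠ 0 ∧
      mo.degree w = Finsupp.single 0 (b + i - j * (c + 1)) + Finsupp.single 1 (j * (c + 1)) +
        Finsupp.single 2 i + Finsupp.single 3 (a - i))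
    (h₂ : ∀ i : ℕ, i ≤ a → ∃ w ∈ W, w ≠ 0 ∧
      mo.degree w = Finsupp.single 1 (b + i) + Finsupp.single 2 i + Finsupp.single 3 (a - i)) :
    W * monoSpan k (Ebi 0 c) = monoSpan k (Ebi a (b + c)) := by
  classical
  have hle : W * monoSpan k (Ebi 0 c) ≤ monoSpan k (Ebi a (b + c)) :=
    le_trans (mul_le_mul' hW le_rfl) (mul_le k a b c)
  refine le_antisymm hle ?_
  apply monoSpan_le_of_leading mo _ _ hle
  rintro e ⟨he1, he2⟩
  have hi : e 2 ≤ a := by omega
  by_cases hcase : (e 1 / (c + 1)) * (c + 1) < b + e 2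
  · obtain ⟨w, hwW, hw0, hwdeg⟩ := h₁ (e 2) (e 1 / (c + 1)) hi hcase
    set m₁ : Fin 4 →₀ ℕ := Finsupp.single 0 (c - e 1 % (c + 1)) + Finsupp.single 1 (e 1 % (c + 1))
      with hm₁
    have hm₁S : monomial m₁ (1 : k) ∈ monoSpan k (Ebi 0 c) := by
      apply Submodule.subset_span
      refine ⟨m₁, ⟨?_, ?_⟩, rfl⟩
      · simp [hm₁]
      · have := Nat.mod_lt (e 1) (by omega : 0 < c + 1)
        simp [hm₁]
        omega
    refine ⟨w * monomial m₁ 1, Submodule.mul_mem_mul hwW hm₁S, ?_, ?_⟩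
    · exact mul_ne_zero hw0 (by simp)
    · rw [mo.degree_mul hw0 (by simp), mo.degree_monomial, if_neg one_ne_zero, hwdeg, hm₁]
      have hdm : e 1 / (c + 1) * (c + 1) + e 1 % (c + 1) = e 1 := Nat.div_add_mod' (e 1) (c + 1)
      have hml := Nat.mod_lt (e 1) (by omega : 0 < c + 1)
      ext t
      fin_cases t <;> simp <;> omega
  · obtain ⟨w, hwW, hw0, hwdeg⟩ := h₂ (e 2) hi
    have hq : b + e 2 ≤ e 1 := by
      have := Nat.div_mul_le_self (e 1) (c + 1)
      omega
    set m₁ : Fin 4 →₀ ℕ := Finsupp.single 0 (e 0) + Finsupp.single 1 (e 1 - (b + e 2)) with hm₁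
    have hm₁S : monomial m₁ (1 : k) ∈ monoSpan k (Ebi 0 c) := by
      apply Submodule.subset_span
      refine ⟨m₁, ⟨?_, ?_⟩, rfl⟩
      · simp [hm₁]
      · simp [hm₁]
        omega
    refine ⟨w * monomial m₁ 1, Submodule.mul_mem_mul hwW hm₁S, ?_, ?_⟩
    · exact mul_ne_zero hw0 (by simp)
    · rw [mo.degree_mul hw0 (by simp), mo.degree_monomial, if_neg one_ne_zero, hwdeg, hm₁]
      ext t
      fin_cases t <;> simp <;> omega

theorem main' (mo : MonomialOrder (Fin 4)) (a b c : ℕ) (W : Submodule k (MvPolynomial (Fin 4) k))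
    (hW : W ≤ Submodule.span k {f : MvPolynomial (Fin 4) k | ∃ e : Fin 4 →₀ ℕ, e 2 + e 3 = a ∧ e 0 + e 1 = b + e 2 ∧ f = MvPolynomial.monomial e 1})
    (h₁ : ∀ i j : ℕ, i ≤ a → j * (c + 1) < b + i → ∃ w ∈ W, w ≠ 0 ∧
      mo.degree w = Finsupp.single 0 (b + i - j * (c + 1)) + Finsupp.single 1 (j * (c + 1)) +
        Finsupp.single 2 i + Finsupp.single 3 (a - i))
    (h₂ : ∀ i : ℕ, i ≤ a → ∃ w ∈ W, w ≠ 0 ∧
      mo.degree w = Finsupp.single 1 (b + i) + Finsupp.single 2 i + Finsupp.single 3 (a - i)) :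
    W * Submodule.span k {f : MvPolynomial (Fin 4) k | ∃ e : Fin 4 →₀ ℕ, e 2 + e 3 = 0 ∧ e 0 + e 1 = c + e 2 ∧ f = MvPolynomial.monomial e 1} =
      Submodule.span k {f : MvPolynomial (Fin 4) k | ∃ e : Fin 4 →₀ ℕ, e 2 + e 3 = a ∧ e 0 + e 1 = (b + c) + e 2 ∧ f = MvPolynomial.monomial e 1} := by
  rw [← monoSpan_Ebi, ← monoSpan_Ebi]
  rw [← monoSpan_Ebi] at hW
  exact main k mo a b c W hW h₁ h₂

end Cox

end Groth.Agent.H5.CoxGen
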